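import Cfsg.Agent.Lib.Sp4R.NrD3

/-!
The overgroup `2.A₇` of `SL₂(7)` in `Sp₄(7)`, through an invariant set of 240 vectors.
-/

set_option autoImplicit false

namespace H97s.NrD

open Matrix

/-- membership in a set of vectors coded by the bits of a number -/
def Tm (m : ℕ) (a b c d : ZMod 7) : Bool := m.testBit (a.val + 7 * b.val + 49 * c.val + 343 * d.val)

/-- the set coded by `m` is preserved by `A` -/
def Pres (m : ℕ) (A : Matrix (Fin 4) (Fin 4) (ZMod 7)) : Prop :=
  ∀ x : Fin 4 → ZMod 7, Tm m (x 0) (x 1) (x 2) (x 3) = true →
    Tm m ((A *ᵥ x) 0) ((A *ᵥ x) 1) ((A *ᵥ x) 2) ((A *ᵥ x) 3) = true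

theorem Pres.mul {m : ℕ} {A B : Matrix (Fin 4) (Fin 4) (ZMod 7)} (hA : Pres m A) (hB : Pres m B) :
    Pres m (A * B) := fun x hx => by
  rw [← mulVec_mulVec]; exact hA _ (hB x hx)

theorem pres_one (m : ℕ) : Pres m 1 := fun x hx => by rw [one_mulVec]; exact hx

def U7 (a : ZMod 7) : Matrix (Fin 4) (Fin 4) (ZMod 7) :=
  !![1, 0, 0, 0; a, 1, 0, 0; 4 * a ^ 2, a, 1, 0; 6 * a ^ 3, 4 * a ^ 2, a, 1]

def W7 : Matrix (Fin 4) (Fin 4) (ZMod 7) := !![0, 0, 0, 1; 0, 0, 2, 0; 0, 3, 0, 0; 6, 0, 0, 0]

def J7 : Matrix (Fin 4) (Fin 4) (ZMod 7) := !![0, 0, 0, 1; 0, 0, -1, 0; 0, 1, 0, 0; -1, 0, 0, 0]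

def G7 : Matrix (Fin 4) (Fin 4) (ZMod 7) := !![1, 0, 0, 2; 0, 2, 0, 0; 0, 0, 4, 0; 2, 0, 0, 5]

def T7 : Matrix (Fin 4) (Fin 4) (ZMod 7) := !![1, 0, 0, 0; 0, 1, 0, 0; 0, 0, 1, 0; 1, 0, 0, 1]

/-- invariance under the normaliser of `SL₂(7)` -/
structure Good (m : ℕ) : Prop where
  u : ∀ a, Pres m (U7 a)
  w : Pres m W7
  d : ∀ μ s : ZMod 7, μ ^ 2 * s ^ 3 = 1 → Pres m (diagonal ![μ, μ * s, μ * s ^ 2, μ * s ^ 3])

theorem good_of {m : ℕ}
    (h1 : ∀ t a b c d : ZMod 7, Tm m a b c d = true →
      Tm m a (t * a + b) (4 * t ^ 2 * a + t * b + c) (6 * t ^ 3 * a + 4 * t ^ 2 * b + t * c + d) = true)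
    (h2 : ∀ a b c d : ZMod 7, Tm m a b c d = true → Tm m d (2 * c) (3 * b) (6 * a) = true)
    (h3 : ∀ μ s : ZMod 7, μ ^ 2 * s ^ 3 = 1 → ∀ a b c d : ZMod 7, Tm m a b c d = true →
      Tm m (μ * a) (μ * s * b) (μ * s ^ 2 * c) (μ * s ^ 3 * d) = true) : Good m where
  u t x hx := by simpa [U7, mulVec, dotProduct, Fin.sum_univ_four] using h1 t _ _ _ _ hx
  w x hx := by simpa [W7, mulVec, dotProduct, Fin.sum_univ_four] using h2 _ _ _ _ hx
  d μ s h x hx := by simpa [mulVec_diagonal] using h3 μ s h _ _ _ _ hx

def m1 : ℕ := 18802867295388206253403546064347031048376498505492606463417616559312416037605102384258190294949919560717664303182014569708158714051085097508248278148162283570492703987190096890657025894891613982915776944558382310113575408343216282693079446420967566961283231872333545610435287971541256043640251135563045877839379283582507025782186102323573729466809002336125919945152008074640195805234944712129317746108440033445733082568508504246542795688525653836452934311258456643170873733306336466528896700832341997342956659343912511805064124059035598956017192454122915492370338278930964514835264841961994530630040634579903877391375224014675887557558479583168248398471081155968354223945022947318121946950796582742431374923135757320258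

def m2 : ℕ := 18095461107786751352109234021411586015775201987804661284241900368149089921039020030275768984295112386716392772081967020910915473735423752410320175173086795174646009995816013590878039927886222282520779121194556665145379243384095938287649018264455723987138662296560969013917585601319049164152609769598139348652848593669128260796487010312805917783870624259528071281625888181509057127778675337532139679208770054917225568600995240482663974676625817453436279687855773874237918384984466185961461544443297551679413921380422683923169288250252621623493473861258103894175327001780726044405200418954504620815515639127748135345647564900579522467127378506401567247349826077249061360638031767607949891727818950695586813757664985612354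

theorem good1 : Good m1 := good_of (by decide +kernel) (by decide +kernel) (by decide +kernel)

theorem good2 : Good m2 := good_of (by decide +kernel) (by decide +kernel) (by decide +kernel)

theorem pres_G7 : Pres m1 G7 := fun x hx => by
  have h : ∀ a b c d : ZMod 7, Tm m1 a b c d = true →
      Tm m1 (a + 2 * d) (2 * b) (4 * c) (2 * a + 5 * d) = true := by decide +kernel
  simpa [G7, mulVec, dotProduct, Fin.sum_univ_four] using h _ _ _ _ hx

theorem not_pres_G7 : ¬ Pres m2 G7 := fun h => by
  have := h ![0, 0, 0, 1] (by decide +kernel)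
  revert this
  decide +kernel

theorem not_pres_T7 : ¬ Pres m1 T7 := fun h => by
  have := h ![1, 0, 0, 0] (by decide +kernel)
  revert this
  decide +kernel

theorem G7_sp : G7ᵀ * J7 * G7 = J7 := by decide +kernel

theorem T7_sp : T7ᵀ * J7 * T7 = J7 := by decide +kernel

theorem J7_J7 : J7 * J7 = -1 := by decide +kernel

end H97s.NrD
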