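import Mathlib
import Cfsg.Agent.Lib.Sp4R.Six

/-!
# The alternating groups of degree five and six acting on six points
-/

set_option autoImplicit false

namespace H97s.Mt

open Equiv Equiv.Perm Subgroup

/-- evaluation of a word -/
def ev {G : Type*} [Monoid G] {n : ℕ} (gs : Fin n → G) (w : List (Fin n)) : G := (w.map gs).prod

theorem ev_mem {G : Type*} [Group G] {n : ℕ} {gs : Fin n → G} {B : Subgroup G} (h : ∀ a, gs a ∈ B) (w : List (Fin n)) :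
    ev gs w ∈ B := B.list_prod_mem (by simpa using fun a _ => h a)

theorem top_of {n : ℕ} (gs : Fin 3 → alternatingGroup (Fin n)) (T : List (List (Fin 3)))
    (h : ∀ σ : Perm (Fin n), σ.support.card = 3 → ∃ w ∈ T, ev (fun a => (gs a).1) w = σ) : closure (Set.range gs) = ⊤ := by
  refine map_injective (alternatingGroup (Fin n)).subtype_injective (le_antisymm (map_mono le_top) ?_)
  rw [← MonoidHom.range_eq_map, range_subtype]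
  refine closure_three_cycles_eq_alternating.ge.trans ((closure_le _).2 fun σ hσ => ?_)
  obtain ⟨w, -, rfl⟩ := h σ (card_support_eq_three_iff.2 hσ)
  exact ev_mem (fun a => mem_map_of_mem _ (Subgroup.subset_closure (Set.mem_range_self a))) w

/-- the group theoretic part of `Sx` -/
structure Md {G : Type*} [Group G] (gs : Fin 3 → G) (πs : Fin 3 → Perm (Fin 6)) (r : Fin 6 → G) : Prop where
  gen : ∀ a, Tr (closure {gs 0, gs 1}) r (gs a) (πs a)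
  all : ∀ g, ∃ σ, Tr (closure {gs 0, gs 1}) r g σ
  dbl : ∀ i j, i ≠ j → ∃ g σ, Tr (closure {gs 0, gs 1}) r g σ ∧ σ 0 = i ∧ σ 1 = j
  r0 : r 0 = 1

theorem md_of {G : Type*} [Group G] (gs : Fin 3 → G) (πs : Fin 3 → Perm (Fin 6)) (R : Fin 6 → List (Fin 3))
    (W : Fin 3 → Fin 6 → List (Fin 2)) (D : List (List (Fin 3))) (h0 : R 0 = [])
    (h1 : ∀ a i, (ev gs (R (πs a i)))⁻¹ * gs a * ev gs (R i) = ev ![gs 0, gs 1] (W a i))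
    (h2 : ∀ i j, i ≠ j → ∃ w ∈ D, ev πs w 0 = i ∧ ev πs w 1 = j) (h3 : closure (Set.range gs) = ⊤) :
    Md gs πs fun i => ev gs (R i) := by
  have k1 : ∀ a, Tr (closure {gs 0, gs 1}) (fun i => ev gs (R i)) (gs a) (πs a) := fun a i => by
    rw [h1]; exact ev_mem (fun a => by fin_cases a <;> exact subset_closure (by simp)) _
  refine ⟨k1, fun g => ?_, fun i j hij => ?_, by simp [h0, ev]⟩
  · induction h3.ge (mem_top g) using closure_induction with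
    | mem x hx => obtain ⟨a, rfl⟩ := hx; exact ⟨_, k1 a⟩
    | one => exact ⟨1, Tr.one _ _⟩
    | mul x y _ _ a b => obtain ⟨σ, a⟩ := a; obtain ⟨τ, b⟩ := b; exact ⟨_, a.mul b⟩
    | inv x _ a => obtain ⟨σ, a⟩ := a; exact ⟨_, a.inv⟩
  · obtain ⟨w, -, e⟩ := h2 i j hij
    refine ⟨ev gs w, _, ?_, e⟩
    clear e
    induction w with
    | nil => exact Tr.one _ _
    | cons a w ih => exact (k1 a).mul ih

/-- generators of the alternating group of degree five -/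
def g5 : Fin 3 → alternatingGroup (Fin 5) := ![⟨c[0, 1, 2, 3, 4], mem_alternatingGroup.2 (by decide)⟩,
  ⟨c[1, 4] * c[2, 3], mem_alternatingGroup.2 (by decide)⟩, ⟨c[0, 1, 2], mem_alternatingGroup.2 (by decide)⟩]

/-- their action on six points -/
def p5 : Fin 3 → Perm (Fin 6) := ![c[1, 2, 3, 4, 5], c[2, 5] * c[3, 4], c[0, 1, 3] * c[2, 5, 4]]

theorem md5 : ∃ r, Md g5 p5 r :=
  ⟨_, md_of g5 p5 ![[], [2], [0, 2], [2, 2], [0, 2, 2], [1, 0, 2]]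
    ![![[0], [], [0, 0, 0], [], [0, 0, 1], [1, 0]], ![[1], [1, 0], [], [1], [1], []], ![[], [], [1, 0, 1], [], [0, 1], [1]]]
    [[], [0], [2], [0, 0], [0, 2], [1, 0], [1, 2], [2, 0], [2, 2], [0, 0, 0], [0, 0, 2], [0, 1, 2], [0, 2, 0], [0, 2, 2],
      [1, 0, 2], [1, 2, 0], [2, 0, 0], [2, 0, 2], [2, 1, 2], [2, 2, 0], [0, 0, 0, 2], [0, 0, 1, 2], [0, 0, 2, 2], [0, 1, 2, 0],
      [0, 2, 0, 0], [0, 2, 1, 2], [0, 2, 2, 0], [1, 0, 0, 2], [1, 0, 2, 0], [2, 0, 1, 2]] rfl (by decide +kernel)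
    (by decide +kernel) (top_of _ [[2], [2, 2], [0, 1, 2], [0, 2, 2], [1, 2, 0], [1, 2, 1], [2, 0, 1], [2, 0, 2], [2, 2, 0],
      [0, 0, 2, 1], [0, 1, 2, 1], [0, 1, 2, 2], [0, 2, 1, 2], [1, 0, 0, 2], [1, 0, 1, 2], [2, 0, 1, 2], [2, 2, 0, 1],
      [0, 0, 0, 2, 0], [0, 1, 2, 0, 0], [0, 1, 2, 0, 1]] (by decide +kernel))⟩

/-- generators of the alternating group of degree six -/
def g6 : Fin 3 → alternatingGroup (Fin 6) := ![⟨c[1, 2, 3], mem_alternatingGroup.2 (by decide)⟩,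
  ⟨c[3, 4, 5], mem_alternatingGroup.2 (by decide)⟩, ⟨c[0, 1, 2], mem_alternatingGroup.2 (by decide)⟩]

/-- their images under an outer automorphism -/
def g6' : Fin 3 → alternatingGroup (Fin 6) := ![⟨c[0, 1, 2] * c[3, 4, 5], mem_alternatingGroup.2 (by decide)⟩,
  ⟨c[0, 3, 1] * c[2, 4, 5], mem_alternatingGroup.2 (by decide)⟩, ⟨c[0, 3, 1] * c[2, 5, 4], mem_alternatingGroup.2 (by decide)⟩]

/-- their action on six points -/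
def p6 : Fin 3 → Perm (Fin 6) := ![c[1, 2, 3], c[3, 4, 5], c[0, 1, 2]]

theorem top6 : closure (Set.range g6) = ⊤ :=
  top_of _ [[0], [1], [2], [0, 0], [1, 1], [2, 2], [0, 0, 2], [0, 2, 2], [2, 0, 0], [2, 2, 0], [0, 0, 1, 0], [0, 1, 0, 0],
    [1, 0, 1, 1], [1, 1, 0, 1], [0, 0, 1, 1, 0], [0, 1, 1, 0, 0], [1, 0, 0, 1, 1], [1, 1, 0, 0, 1], [0, 0, 1, 0, 1, 1],
    [0, 0, 1, 1, 0, 1], [0, 1, 0, 0, 1, 1], [0, 1, 1, 0, 0, 1], [1, 0, 0, 1, 1, 0], [1, 0, 0, 1, 1, 2], [1, 0, 1, 1, 0, 0],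
    [1, 0, 1, 1, 2, 2], [1, 1, 0, 0, 1, 0], [1, 1, 0, 0, 1, 2], [1, 1, 0, 1, 0, 0], [1, 1, 0, 1, 2, 2], [1, 1, 2, 0, 0, 1],
    [1, 1, 2, 2, 0, 1], [1, 2, 0, 0, 1, 1], [1, 2, 2, 0, 1, 1], [2, 0, 0, 1, 0, 2, 2], [0, 1, 1, 2, 0, 1, 0, 2],
    [0, 1, 2, 0, 1, 1, 0, 2], [2, 0, 0, 1, 1, 0, 2, 2], [2, 0, 1, 0, 1, 1, 2, 0], [2, 0, 1, 1, 0, 1, 2, 0]] (by decide +kernel)

theorem top6' : closure (Set.range g6') = ⊤ := by
  rw [eq_top_iff, ← top6, closure_le]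
  rintro _ ⟨a, rfl⟩
  have : ∀ a, g6 a = ev g6' (![[0, 0, 1, 0, 1, 0, 2], [2, 0, 0, 1, 0, 0, 2], [2, 0, 0, 1, 1, 0, 0, 2]] a) := by
    decide +kernel
  rw [this]
  exact ev_mem (fun a => Subgroup.subset_closure (Set.mem_range_self a)) _

theorem md6 {gs : Fin 3 → alternatingGroup (Fin 6)} (h : gs = g6 ∨ gs = g6') : ∃ r, Md gs p6 r :=
  ⟨_, md_of gs p6 ![[], [2], [0, 2], [0, 0, 2], [1, 0, 0, 2], [1, 1, 0, 0, 2]]
    ![![[0], [], [], [], [1, 1, 0, 1, 0, 0], [1, 0, 1, 1, 0, 0]], ![[1], [1], [0, 1, 0, 0], [], [], []],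
      ![[], [0], [0, 0], [0, 0], [0, 0], [0, 0]]]
    [[], [0], [2], [0, 0], [0, 2], [2, 0], [2, 2], [0, 0, 2], [0, 2, 2], [1, 0, 0], [1, 0, 2], [2, 0, 0], [2, 2, 0],
      [0, 1, 0, 2], [0, 2, 2, 0], [1, 0, 0, 2], [1, 0, 2, 2], [1, 1, 0, 0], [1, 1, 0, 2], [1, 2, 0, 0], [0, 1, 0, 0, 2],
      [0, 1, 1, 0, 2], [1, 0, 1, 0, 2], [1, 1, 0, 0, 2], [1, 1, 0, 2, 2], [1, 1, 2, 0, 0], [0, 0, 1, 0, 0, 2],
      [0, 1, 1, 0, 0, 2], [1, 1, 0, 1, 0, 2], [1, 0, 0, 1, 0, 0, 2]] rfl (by rcases h with rfl | rfl <;> decide +kernel)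
    (by decide +kernel) (by rcases h with rfl | rfl; exacts [top6, top6'])⟩

theorem fix_five (π : Perm (Fin 6)) : π ^ 5 = 1 → π ≠ 1 → ∃ j, ∀ i, π i = i ↔ i = j := by
  revert π; decide +kernel

theorem ord_three (π : Perm (Fin 6)) : π ^ 3 = 1 → π = 1 ∨ π.support.card = 3 ∨
    ∃ a b, ∀ i, i = a ∨ i = π a ∨ i = π (π a) ∨ i = b ∨ i = π b ∨ i = π (π b) := by
  revert π; decide +kernel

theorem common_fix {π π' : Perm (Fin 6)} (h : π.support.card = 3) (h' : π'.support.card = 3) (h3 : π ^ 3 = 1)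
    (h5 : (π * π') ^ 5 = 1) : ∃ j, π j = j ∧ π' j = j := by
  by_contra! k
  have u : π.support ∪ π'.support = Finset.univ := Finset.eq_univ_of_forall fun j => by
    simpa only [Finset.mem_union, mem_support, ← imp_iff_not_or] using k j
  have d : Perm.Disjoint π π' := disjoint_iff_disjoint_support.2 (Finset.card_union_eq_card_add_card.1 (by simp [u, h, h']))
  rw [d.commute.mul_pow, (d.pow_disjoint_pow 5 5).mul_eq_one_iff] at h5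
  have : π = 1 := by
    calc π = (π ^ 3) ^ 2 * (π ^ 5)⁻¹ := by group
      _ = 1 := by simp [h3, h5.1]
  simp [this] at h

theorem five_facts : g5 0 ^ 5 = 1 ∧ g5 0 ≠ 1 ∧ g5 1 * g5 1 = 1 ∧ g5 1 ≠ 1 ∧ g5 1 * g5 0 * g5 1 * g5 0 = 1 ∧
    ∀ n ∈ [2, 3, 5], ((swap 0 1 * swap 1 2) * p5 0 * (swap 0 1 * swap 1 2)⁻¹ * p5 0) ^ n ≠ 1 := by decide +kernel

theorem six_facts : g6 2 ^ 3 = 1 ∧ g6 1 ^ 3 = 1 ∧ g6 2 * g6 1 = g6 1 * g6 2 ∧ g6' 0 = g6 2 * g6 1 ∧ g6 2 ≠ 1 ∧ g6' 0 ≠ 1 ∧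
    (g6 0 * g6 1) ^ 5 = 1 ∧ (g6' 0 * g6' 1) ^ 5 = 1 ∧ p6 0 = swap 1 2 * swap 2 3 ∧
    ev g6 [0, 0, 1, 2, 0, 1, 0] * g6 2 * (ev g6 [0, 0, 1, 2, 0, 1, 0])⁻¹ = g6 1 ∧
    ev g6 [1, 1, 2, 0, 0, 1, 0] * g6 2 * (ev g6 [1, 1, 2, 0, 0, 1, 0])⁻¹ = g6 0 ∧
    ev g6 [0, 1, 0, 1, 2, 0, 0] * (g6 2 * g6 1) * (ev g6 [0, 1, 0, 1, 2, 0, 0])⁻¹ = g6 2 * (g6 1)⁻¹ ∧
    ev g6 [0, 0] * g6' 0 * (ev g6 [0, 0])⁻¹ = g6' 1 := by
  refine ⟨?_, ?_, ?_, ?_, ?_, ?_, ?_, ?_, ?_, ?_, ?_, ?_, ?_⟩ <;> decide +kernel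

end H97s.Mt
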