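import Mathlib
import Cfsg.Agent.Lib.Sp4R.R3

/-!
# The icosahedral root systems do not occur
-/

set_option autoImplicit false
set_option linter.unusedSectionVars false
set_option linter.style.haveILetI false

namespace H82.SH

open H97s H97s.Cx

/-- pairs `(a, b)` stand for `a + b φ` -/
abbrev Z := ℤ × ℤ
/-- coordinate triples -/
abbrev Z3 := Z × Z × Z

/-- multiplication -/
def ml (x y : Z) : Z := (x.1 * y.1 + x.2 * y.2, x.1 * y.2 + x.2 * y.1 + x.2 * y.2)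
/-- norm -/
def nm (x : Z) : ℤ := x.1 ^ 2 + x.1 * x.2 - x.2 ^ 2
/-- scalar product -/
def dt (u v : Z3) : Z := ml u.1 v.1 + ml u.2.1 v.2.1 + ml u.2.2 v.2.2
/-- scalar multiple -/
def sm (t : Z) (u : Z3) : Z3 := (ml t u.1, ml t u.2.1, ml t u.2.2)
/-- the admissible inner products -/
def T7 : List Z := [(0, 0), (1, 0), (-1, 0), (0, 1), (0, -1), (-1, 1), (1, -1)]
/-- product of norms -/
def Pn (z : Z) : ℤ := (T7.map fun s => nm (z - (s + s))).prod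

/-- roots, first layer -/
def R0 : List Z3 := [((2,0),(0,0),(0,0)), ((0,0),(2,0),(0,0)), ((0,0),(0,0),(2,0)), ((0,1),(1,0),(-1,1))]
/-- roots, second layer -/
def R1 : List Z3 :=
  [((2,0),(0,0),(0,0)), ((0,0),(2,0),(0,0)), ((0,0),(0,0),(2,0)), ((0,1),(1,0),(-1,1)),
   ((0,1),(-1,0),(1,-1)), ((0,1),(-1,0),(-1,1)), ((0,1),(1,0),(1,-1)), ((-1,1),(0,1),(1,0)),
   ((1,0),(-1,1),(0,-1))]
/-- the positive roots -/
def R2 : List Z3 :=
  [((2,0),(0,0),(0,0)), ((0,0),(2,0),(0,0)), ((0,0),(0,0),(2,0)), ((0,1),(1,0),(-1,1)),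
   ((0,1),(-1,0),(1,-1)), ((0,1),(-1,0),(-1,1)), ((0,1),(1,0),(1,-1)), ((-1,1),(0,1),(1,0)),
   ((1,0),(-1,1),(0,-1)), ((-1,1),(0,-1),(-1,0)), ((1,0),(1,-1),(0,1)), ((-1,1),(0,-1),(1,0)),
   ((1,0),(1,-1),(0,-1)), ((-1,1),(0,1),(-1,0)), ((1,0),(-1,1),(0,1))]
/-- projections, first layer -/
def P1 : List Z3 :=
  [((1,0),(1,0),(1,0)), ((0,0),(1,0),(0,1)), ((0,0),(-1,0),(0,-1)), ((0,0),(0,1),(-1,1)),
   ((0,0),(0,1),(1,-1)), ((0,0),(0,-1),(-1,1)), ((0,0),(0,-1),(1,-1)), ((0,0),(-1,1),(-1,0)),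
   ((0,0),(1,-1),(1,0)), ((1,0),(0,0),(1,-1)), ((1,0),(1,0),(-1,0)), ((1,0),(-1,0),(1,0)),
   ((1,0),(-1,0),(-1,0)), ((-1,0),(0,0),(-1,1)), ((-1,0),(1,0),(1,0)), ((-1,0),(1,0),(-1,0)),
   ((-1,0),(-1,0),(1,0)), ((0,1),(-1,1),(0,0)), ((0,1),(1,-1),(0,0)), ((0,-1),(1,-1),(0,0)),
   ((-1,1),(0,0),(0,1)), ((-1,1),(0,0),(0,-1)), ((-1,1),(-1,0),(0,0)), ((1,-1),(0,0),(0,1)),
   ((1,-1),(0,0),(0,-1)), ((1,-1),(1,0),(0,0))]
/-- all projections -/
def P2 : List Z3 :=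
  [((1,0),(1,0),(1,0)), ((0,0),(1,0),(0,1)), ((0,0),(-1,0),(0,-1)), ((0,0),(0,1),(-1,1)),
   ((0,0),(0,1),(1,-1)), ((0,0),(0,-1),(-1,1)), ((0,0),(0,-1),(1,-1)), ((0,0),(-1,1),(-1,0)),
   ((0,0),(1,-1),(1,0)), ((1,0),(0,0),(1,-1)), ((1,0),(1,0),(-1,0)), ((1,0),(-1,0),(1,0)),
   ((1,0),(-1,0),(-1,0)), ((-1,0),(0,0),(-1,1)), ((-1,0),(1,0),(1,0)), ((-1,0),(1,0),(-1,0)),
   ((-1,0),(-1,0),(1,0)), ((0,1),(-1,1),(0,0)), ((0,1),(1,-1),(0,0)), ((0,-1),(1,-1),(0,0)),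
   ((-1,1),(0,0),(0,1)), ((-1,1),(0,0),(0,-1)), ((-1,1),(-1,0),(0,0)), ((1,-1),(0,0),(0,1)),
   ((1,-1),(0,0),(0,-1)), ((1,-1),(1,0),(0,0)), ((0,0),(1,0),(0,-1)), ((0,0),(-1,0),(0,1)),
   ((0,0),(-1,1),(1,0)), ((0,0),(1,-1),(-1,0)), ((1,0),(0,0),(-1,1)), ((1,0),(0,1),(0,0)),
   ((1,0),(0,-1),(0,0)), ((-1,0),(0,0),(1,-1)), ((-1,0),(-1,0),(-1,0)), ((-1,0),(0,1),(0,0)),
   ((-1,0),(0,-1),(0,0)), ((0,1),(0,0),(1,0)), ((0,1),(0,0),(-1,0)), ((0,-1),(0,0),(1,0)),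
   ((0,-1),(0,0),(-1,0)), ((0,-1),(-1,1),(0,0)), ((-1,1),(1,0),(0,0)), ((1,-1),(-1,0),(0,0))]
/-- the target -/
def one : Z3 := ((1,0),(1,0),(1,0))
/-- the common divisor -/
def Gl (l : List Z) : ℕ := (l.map fun z => (Pn z).natAbs).foldr Nat.gcd 0
/-- the common divisor of a projection -/
def Gc (y : Z3) : ℕ := Gl (R2.map fun r => dt r y)
/-- the common divisor of an inner product -/
def Gs (s : Z) : ℕ := Gl [s + s - (2, 0), s + s - (4, 0), s + s - (2, 2)]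

/-- one reflection step for roots -/
def StR (l l' : List Z3) : Prop :=
  ∀ w ∈ l', w ∈ l ∨ ∃ u ∈ l, ∃ v ∈ l, ∃ t ∈ T7, dt u v = t + t ∧ (w = v - sm t u ∨ w = -(v - sm t u))
/-- one reflection step for projections -/
def StP (l l' : List Z3) : Prop :=
  ∀ y ∈ l', y ∈ l ∨ ∃ u ∈ R2, ∃ t ∈ T7, dt u y = t + t ∧ (y - sm t u ∈ l ∨ (nm t ^ 2 = 1 ∧ u - sm t y ∈ l))

theorem r1 : StR R0 R1 := by unfold StR; decide +kernel
theorem r2 : StR R1 R2 := by unfold StR; decide +kernel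
theorem p1 : StP [one] P1 := by unfold StP; decide +kernel
theorem p2 : StP P1 P2 := by unfold StP; decide +kernel
theorem prt : ∀ u ∈ R2, dt u u = (4, 0) ∧ ∃ v ∈ R2, ∃ t ∈ T7, t.2 ≠ 0 ∧ dt u v = t + t := by decide +kernel
theorem fin' : ∀ s ∈ T7, s = (1, 0) ∨ Gs s ∣ 10 ^ 20 ∨ (Gs s ∣ 30 ^ 20 ∧ s = (-1, 0)) := by decide +kernel
set_option synthInstance.maxSize 2000 in
theorem fin : ∀ a ∈ T7, ∀ b ∈ T7, ∀ c ∈ T7, a = 0 ∨ (a, b, c) ∈ P2 ∨ (a, b, c) ∈ R2 ∨ -(a, b, c) ∈ R2 ∨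
    Gc (a, b, c) ∣ 10 ^ 20 ∨ (Gc (a, b, c) ∣ 30 ^ 20 ∧ b = 0 ∧ c = 0 ∧ (a = (1, 0) ∨ a = (-1, 0))) := by
  decide +kernel

section field
variable {K : Type*} [Field K] {φ : K}

/-- evaluation -/
def ev (φ : K) (x : Z) : K := x.1 + x.2 * φ

theorem ev_add (x y : Z) : ev φ (x + y) = ev φ x + ev φ y := by simp [ev]; ring
theorem ev_sub (x y : Z) : ev φ (x - y) = ev φ x - ev φ y := by simp [ev]; ring
theorem ev_neg (x : Z) : ev φ (-x) = -ev φ x := by simp [ev]; ring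
theorem ev_ml (h : φ ^ 2 = φ + 1) (x y : Z) : ev φ (ml x y) = ev φ x * ev φ y := by
  simp only [ev, ml]; push_cast; linear_combination (-(x.2 * y.2) : K) * h

theorem nm_zero (h : φ ^ 2 = φ + 1) {x : Z} (e : ev φ x = 0) : (nm x : K) = 0 := by
  simp only [ev, nm] at *; push_cast
  linear_combination (x.1 + x.2 - x.2 * φ : K) * e + (x.2 ^ 2 : K) * h

theorem t5_ev (h : φ ^ 2 = φ + 1) {u : K} (hu : T5 u) : ∃ s ∈ T7, u = ev φ s := by
  have : u * (u - 1) * (u + 1) = 0 ∨ (u - φ) * (u + φ) * (u - (φ - 1)) * (u + (φ - 1)) = 0 := by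
    rcases hu with e | e | e
    · left; rw [e]; ring
    · left; linear_combination u * e
    · right; linear_combination e + (-2 * u ^ 2 + φ ^ 2 - φ + 1) * h
  simp only [mul_eq_zero] at this
  simp only [T7, List.mem_cons, List.not_mem_nil, or_false, exists_eq_or_imp, exists_eq_left, ev]
  push_cast
  rcases this with ((e | e) | e) | (((e | e) | e) | e)
  · exact .inl (by linear_combination e)
  · exact .inr (.inl (by linear_combination e))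
  · exact .inr (.inr (.inl (by linear_combination e)))
  · exact .inr (.inr (.inr (.inl (by linear_combination e))))
  · exact .inr (.inr (.inr (.inr (.inl (by linear_combination e)))))
  · exact .inr (.inr (.inr (.inr (.inr (.inl (by linear_combination e))))))
  · exact .inr (.inr (.inr (.inr (.inr (.inr (by linear_combination e))))))

theorem five_of (h : φ ^ 2 = φ + 1) {t : Z} (ht : t ∈ T7) (h0 : t.2 ≠ 0) :
    ev φ t ^ 4 - 3 * ev φ t ^ 2 + 1 = 0 := by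
  simp only [T7, List.mem_cons, List.not_mem_nil, or_false] at ht
  rcases ht with rfl | rfl | rfl | rfl | rfl | rfl | rfl <;> simp [ev] at h0 ⊢
  · linear_combination (φ ^ 2 + φ - 1) * h
  · linear_combination (φ ^ 2 + φ - 1) * h
  · linear_combination (φ ^ 2 - 3 * φ + 1) * h
  · linear_combination (φ ^ 2 - 3 * φ + 1) * h

theorem pn_zero (h : φ ^ 2 = φ + 1) {z : Z} {u : K} (hu : T5 u) (e : ev φ z = 2 * u) : (Pn z : K) = 0 := by
  obtain ⟨s, hs, rfl⟩ := t5_ev h hu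
  have : nm (z - (s + s)) ∣ Pn z := List.dvd_prod (List.mem_map.2 ⟨s, hs, rfl⟩)
  obtain ⟨c, hc⟩ := this
  rw [hc, Int.cast_mul, nm_zero h (by rw [ev_sub, ev_add, e]; ring), zero_mul]

theorem gl_zero (p : ℕ) [CharP K p] (h : φ ^ 2 = φ + 1) {l : List Z}
    (hl : ∀ z ∈ l, ∃ u, T5 u ∧ ev φ z = 2 * u) : (Gl l : K) = 0 := by
  rw [CharP.cast_eq_zero_iff K p, Gl]
  induction l with
  | nil => simp
  | cons a l ih =>
    refine Nat.dvd_gcd ?_ (ih fun r hr => hl r (List.mem_cons_of_mem _ hr))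
    obtain ⟨u, h1, h2⟩ := hl a List.mem_cons_self
    exact Int.natCast_dvd.1 ((CharP.intCast_eq_zero_iff K p _).1 (pn_zero h h1 h2))

theorem ten (h2 : (2 : K) ≠ 0) (h5 : (5 : K) ≠ 0) {n : ℕ} (h : (n : K) = 0) : ¬ n ∣ 10 ^ 20 := by
  rintro ⟨c, hc⟩
  have := congrArg (Nat.cast : ℕ → K) hc
  rw [Nat.cast_mul, h, zero_mul, Nat.cast_pow] at this
  exact mul_ne_zero h2 h5 (by linear_combination (by simpa using pow_eq_zero_iff (by decide) |>.1 this : (10 : K) = 0))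

theorem thirty (h2 : (2 : K) ≠ 0) (h5 : (5 : K) ≠ 0) {n : ℕ} (h : (n : K) = 0) (hn : n ∣ 30 ^ 20) : (3 : K) = 0 := by
  obtain ⟨c, hc⟩ := hn
  have := congrArg (Nat.cast : ℕ → K) hc
  rw [Nat.cast_mul, h, zero_mul, Nat.cast_pow] at this
  exact (mul_eq_zero.1 (by
    linear_combination (by simpa using pow_eq_zero_iff (by decide) |>.1 this : (30 : K) = 0))).resolve_left
    (mul_ne_zero h2 h5)

end field

variable {K V A : Type*} [Field K] [IsAlgClosed K] [AddCommGroup V] [Module K V] [Ring A] [Algebra K A]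

/-- an icosahedral frame -/
structure Fr (D : Cx K V A) (φ : K) (e₁ e₂ e₃ : V) : Prop where
  five : (5 : K) ≠ 0
  sq : φ ^ 2 = φ + 1
  r1 : D.Rt e₁
  r2 : D.Rt e₂
  r3 : D.Rt e₃
  o12 : D.B e₁ e₂ = 0
  o13 : D.B e₁ e₃ = 0
  o23 : D.B e₂ e₃ = 0
  rh : D.Rt ((2 : K)⁻¹ • (φ • e₁ + e₂ + (φ - 1) • e₃))

/-- the vector with given coordinates -/
def vec (φ : K) (e₁ e₂ e₃ : V) (v : Z3) : V :=
  (2 : K)⁻¹ • (ev φ v.1 • e₁ + ev φ v.2.1 • e₂ + ev φ v.2.2 • e₃)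

/-- the coordinates of a vector -/
def Co (D : Cx K V A) (φ : K) (e₁ e₂ e₃ : V) (c : V) (y : Z3) : Prop :=
  D.B e₁ c = ev φ y.1 ∧ D.B e₂ c = ev φ y.2.1 ∧ D.B e₃ c = ev φ y.2.2

variable {D : Cx K V A} {φ : K} {e₁ e₂ e₃ c c' : V} {u v y y' : Z3} {t : Z} {T : Submodule K V}

namespace Fr
variable (F : Fr D φ e₁ e₂ e₃)
include F

theorem co_vec (v : Z3) : Co D φ e₁ e₂ e₃ (vec φ e₁ e₂ e₃ v) v := by
  have := D.two
  refine ⟨?_, ?_, ?_⟩ <;>
    simp only [vec, map_add, map_smul, smul_eq_mul, F.r1.1, F.r2.1, F.r3.1, F.o12, F.o13, F.o23, D.symm e₂ e₁,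
      D.symm e₃ e₁, D.symm e₃ e₂] <;> field_simp <;> ring

theorem B_vec (h : Co D φ e₁ e₂ e₃ c y) (u : Z3) : ev φ (dt u y) = 2 * D.B (vec φ e₁ e₂ e₃ u) c := by
  have := D.two
  simp only [vec, dt, ev_add, ev_ml F.sq, map_add, map_smul, LinearMap.add_apply, LinearMap.smul_apply,
    smul_eq_mul, h.1, h.2.1, h.2.2]
  field_simp

theorem B_vec' (h : Co D φ e₁ e₂ e₃ c y) (e : dt u y = t + t) : D.B (vec φ e₁ e₂ e₃ u) c = ev φ t :=
  mul_left_cancel₀ D.two (by rw [← F.B_vec h, e, ev_add, two_mul])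

theorem co_sub (h : Co D φ e₁ e₂ e₃ c y) (h' : Co D φ e₁ e₂ e₃ c' y') (t : Z) :
    Co D φ e₁ e₂ e₃ (c - ev φ t • c') (y - sm t y') := by
  refine ⟨?_, ?_, ?_⟩ <;>
    simp [sm, ev_sub, ev_ml F.sq, h.1, h.2.1, h.2.2, h'.1, h'.2.1, h'.2.2]

theorem vec_sub (v u : Z3) (t : Z) :
    vec φ e₁ e₂ e₃ (v - sm t u) = vec φ e₁ e₂ e₃ v - ev φ t • vec φ e₁ e₂ e₃ u := by
  simp only [vec, sm, Prod.fst_sub, Prod.snd_sub, ev_sub, ev_ml F.sq]
  module

omit F in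
theorem vec_neg (v : Z3) : vec φ e₁ e₂ e₃ (-v) = -vec φ e₁ e₂ e₃ v := by
  simp only [vec, Prod.fst_neg, Prod.snd_neg, ev_neg]
  module

theorem stR {l l' : List Z3} (h : StR l l') (hl : ∀ v ∈ l, D.Rt (vec φ e₁ e₂ e₃ v)) :
    ∀ v ∈ l', D.Rt (vec φ e₁ e₂ e₃ v) := fun w hw => by
  rcases h w hw with h | ⟨u, hu, v, hv, t, -, e, h⟩
  · exact hl w h
  have := (hl u hu).of (hl v hv) (F.B_vec' (F.co_vec v) e) (F.vec_sub v u t)
  rcases h with rfl | rfl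
  · exact this
  · rw [vec_neg]
    exact this.neg

theorem v1 : vec φ e₁ e₂ e₃ ((2,0),(0,0),(0,0)) = e₁ := by
  simp [vec, ev, smul_smul, D.two]
theorem v2 : vec φ e₁ e₂ e₃ ((0,0),(2,0),(0,0)) = e₂ := by
  simp [vec, ev, smul_smul, D.two]
theorem v3 : vec φ e₁ e₂ e₃ ((0,0),(0,0),(2,0)) = e₃ := by
  simp [vec, ev, smul_smul, D.two]
theorem vh : D.Rt (vec φ e₁ e₂ e₃ ((0,1),(1,0),(-1,1))) := by
  convert F.rh using 1
  simp only [vec, ev]
  push_cast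
  module

theorem rts : ∀ v ∈ R2, D.Rt (vec φ e₁ e₂ e₃ v) := by
  refine F.stR SH.r2 (F.stR SH.r1 ?_)
  simp only [R0, List.mem_cons, List.not_mem_nil, or_false, forall_eq_or_imp, forall_eq, F.v1, F.v2, F.v3]
  exact ⟨F.r1, F.r2, F.r3, F.vh⟩

/-- no degenerate pair differing by a vector orthogonal to the frame -/
theorem dg (hc : D.Rt c) (hc' : D.Rt c') (h : D.B c c' = 2) (h1 : D.B e₁ c' = D.B e₁ c)
    (h2 : D.B e₂ c' = D.B e₂ c) (h3 : D.B e₃ c' = D.B e₃ c) (h0 : D.B e₁ c ≠ 0) : c' = c := by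
  by_contra hne
  obtain ⟨a1, -, -, a2⟩ := deg_pair hc hc' h
  obtain ⟨b1, b2⟩ := deg3 (sub_ne_zero.2 hne) a1 a2 F.r1 F.vh (by simp [h1]) (by simp [vec, h1, h2, h3]) h0
  rw [(F.co_vec _).1] at b2
  simp only [ev] at b2
  have := F.sq
  push_cast at b2
  have k : φ + 1 = 0 := by
    linear_combination b2 - (φ ^ 4 + φ ^ 3 + 2 * φ ^ 2 + 3 * φ + 4) * this - (2 * φ + 1) * b1
  exact one_ne_zero (α := K) (by linear_combination (2 - φ) * k + this)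

omit F in
theorem vec_mem (h1 : e₁ ∈ T) (h2 : e₂ ∈ T) (h3 : e₃ ∈ T) (v : Z3) : vec φ e₁ e₂ e₃ v ∈ T :=
  T.smul_mem _ (add_mem (add_mem (T.smul_mem _ h1) (T.smul_mem _ h2)) (T.smul_mem _ h3))

theorem norm (h1 : e₁ ∈ T) (h2 : e₂ ∈ T) (h3 : e₃ ∈ T) (hc : D.Rt c) (hT : c ∉ T) (h0 : D.B e₁ c ≠ 0) :
    ∃ c', D.Rt c' ∧ c' ∉ T ∧ Co D φ e₁ e₂ e₃ c' one := by
  haveI := D.char
  have vm := vec_mem (φ := φ) h1 h2 h3
  have st : ∀ l l', StP l l' → (∀ y ∈ l, ∀ c, D.Rt c → c ∉ T → Co D φ e₁ e₂ e₃ c y →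
      ∃ c', D.Rt c' ∧ c' ∉ T ∧ Co D φ e₁ e₂ e₃ c' one) → ∀ y ∈ l', ∀ c, D.Rt c → c ∉ T →
      Co D φ e₁ e₂ e₃ c y → ∃ c', D.Rt c' ∧ c' ∉ T ∧ Co D φ e₁ e₂ e₃ c' one :=
    fun l l' h hl y hy c hc hT hco => by
      rcases h y hy with h | ⟨u, hu, t, -, e, h | ⟨h', h⟩⟩
      · exact hl y h c hc hT hco
      · refine hl _ h _ ((F.rts u hu).of hc (F.B_vec' hco e) rfl) (fun m => hT ?_)
          (F.co_sub hco (F.co_vec u) t)
        simpa using add_mem m (T.smul_mem (ev φ t) (vm u))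
      · refine hl _ h _ (hc.of (F.rts u hu) (by rw [D.symm, F.B_vec' hco e]) rfl) (fun m => hT ?_)
          (F.co_sub (F.co_vec u) hco t)
        have t0 : ev φ t ≠ 0 := fun e0 => by
          have := congrArg (Int.cast : ℤ → K) h'
          simp [nm_zero F.sq e0] at this
        exact (T.smul_mem_iff t0).1 (by simpa using sub_mem (vm u) m)
  have t5 : ∀ u ∈ R2, T5 (D.B (vec φ e₁ e₂ e₃ u) c) := fun u hu => by
    obtain ⟨-, v, hv, t, ht, t0, e⟩ := prt u hu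
    refine i5lem F.five (F.rts u hu) (F.rts v hv) ?_ hc fun x y e => hT ?_
    · rw [F.B_vec' (F.co_vec v) e]
      exact five_of F.sq ht t0
    · rw [e]
      exact add_mem (T.smul_mem _ (vm u)) (T.smul_mem _ (vm v))
  obtain ⟨a, ha, ea⟩ := t5_ev F.sq (F.v1 ▸ t5 _ (by decide))
  obtain ⟨b, hb, eb⟩ := t5_ev F.sq (F.v2 ▸ t5 _ (by decide))
  obtain ⟨d, hd, ed⟩ := t5_ev F.sq (F.v3 ▸ t5 _ (by decide))
  have co : Co D φ e₁ e₂ e₃ c (a, b, d) := ⟨ea, eb, ed⟩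
  have g : (Gc (a, b, d) : K) = 0 := gl_zero D.p F.sq (by
    simp only [List.mem_map, forall_exists_index, and_imp, forall_apply_eq_imp_iff₂]
    exact fun u hu => ⟨_, t5 u hu, F.B_vec co u⟩)
  have nr : ∀ u ∈ R2, ∀ c, D.Rt c → c ∉ T → D.B e₁ c ≠ 0 → ¬ Co D φ e₁ e₂ e₃ c u := fun u hu c hc hT h0 co => by
    have cu := F.co_vec u
    refine hT (F.dg hc (F.rts u hu) ?_ (cu.1.trans co.1.symm) (cu.2.1.trans co.2.1.symm)
      (cu.2.2.trans co.2.2.symm) h0 ▸ vm u)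
    rw [D.symm, F.B_vec' (t := (2, 0)) co (prt u hu).1]
    simp [ev]
  have nr' : ∀ u ∈ R2, ¬ Co D φ e₁ e₂ e₃ c (-u) := fun u hu co =>
    nr u hu (-c) hc.neg (by simpa using hT) (by simpa using h0)
      ⟨by simpa [ev_neg] using congrArg (-·) co.1, by simpa [ev_neg] using congrArg (-·) co.2.1,
        by simpa [ev_neg] using congrArg (-·) co.2.2⟩
  rcases fin a ha b hb d hd with rfl | h | h | h | h | ⟨h, rfl, rfl, rfl | rfl⟩
  · exact absurd (by simpa [ev] using ea) h0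
  · exact st _ _ p2 (st _ _ p1 fun y hy c hc hT co => ⟨c, hc, hT, List.mem_singleton.1 hy ▸ co⟩) _ h c hc hT co
  · exact absurd co (nr _ h c hc hT h0)
  · exact absurd (by rwa [neg_neg]) (nr' _ h)
  · exact absurd h (ten D.two F.five g)
  · have h3 := thirty D.two F.five g h
    refine absurd ⟨?_, eb, ed⟩ (nr' ((2,0),(0,0),(0,0)) (by decide))
    rw [ea]
    simp only [ev, Prod.fst_neg, Prod.snd_neg]
    push_cast
    linear_combination h3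
  · have h3 := thirty D.two F.five g h
    refine absurd ⟨?_, eb, ed⟩ (nr ((2,0),(0,0),(0,0)) (by decide) c hc hT h0)
    rw [ea]
    simp only [ev]
    push_cast
    linear_combination -h3

theorem false : False := by
  haveI := D.char
  have k1 := ker_ne_top (D := D) F.r1.ne_zero
  obtain ⟨c₀, a1, a2, a3⟩ := D.exists_out (D.span_ne_top ![e₁, e₂, e₃] (by simp)) k1
  obtain ⟨c, hc, -, co⟩ := F.norm (Submodule.subset_span (Set.mem_range_self 0))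
    (Submodule.subset_span (Set.mem_range_self 1)) (Submodule.subset_span (Set.mem_range_self 2)) a1 a2 a3
  obtain ⟨c₁, b1, b2, b3⟩ := D.exists_out (D.span_ne_top ![e₁, e₂, e₃, c] (by simp)) k1
  have m1 : e₁ ∈ Submodule.span K (Set.range ![e₁, e₂, e₃, c]) := Submodule.subset_span ⟨0, rfl⟩
  have m2 : e₂ ∈ Submodule.span K (Set.range ![e₁, e₂, e₃, c]) := Submodule.subset_span ⟨1, rfl⟩
  have m3 : e₃ ∈ Submodule.span K (Set.range ![e₁, e₂, e₃, c]) := Submodule.subset_span ⟨2, rfl⟩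
  have m4 : c ∈ Submodule.span K (Set.range ![e₁, e₂, e₃, c]) := Submodule.subset_span ⟨3, rfl⟩
  obtain ⟨c', hc', hT, co'⟩ := F.norm m1 m2 m3 b1 b2 b3
  generalize Submodule.span K (Set.range ![e₁, e₂, e₃, c]) = T at *
  have vm := vec_mem (φ := φ) m1 m2 m3
  have ch : D.B (vec φ e₁ e₂ e₃ ((0,1),(1,0),(-1,1))) c = ev φ (0, 1) := F.B_vec' co (by decide)
  have ch' : D.B (vec φ e₁ e₂ e₃ ((0,1),(1,0),(-1,1))) c' = ev φ (0, 1) := F.B_vec' co' (by decide)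
  have t5 : ∀ x, D.Rt x → ∀ s ∈ T, x = c' - s → T5 (D.B c x) := fun x hx s hs e => by
    refine i5lem F.five hc F.vh ?_ hx fun a b e' => hT ?_
    · rw [D.symm, ch]
      exact five_of F.sq (by decide) (by decide)
    · rw [← sub_add_cancel c' s, ← e, e']
      exact add_mem (add_mem (T.smul_mem _ m4) (T.smul_mem _ (vm _))) hs
  simp only [Co, one, ev, Int.cast_one, Int.cast_zero, zero_mul, add_zero] at co co'
  obtain ⟨x1, x2, x3⟩ := co
  obtain ⟨y1, y2, y3⟩ := co'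
  have o21 := D.symm e₂ e₁ ▸ F.o12
  have o31 := D.symm e₃ e₁ ▸ F.o13
  have o32 := D.symm e₃ e₂ ▸ F.o23
  have s1 : D.Rt (c' - e₁) := F.r1.of hc' y1 (by simp)
  have s2 : D.Rt (c' - (e₁ + e₂)) := F.r2.of s1 (t := 1) (by simp [y2, o21]) (by simp [sub_sub])
  have s3 : D.Rt (c' - (e₁ + e₂ + e₃)) := F.r3.of s2 (t := 1) (by simp [y3, o31, o32]) (by simp [sub_sub])
  have sh := F.vh.of hc' ch' rfl
  obtain ⟨s, hs, es⟩ := t5_ev F.sq (t5 c' hc' 0 T.zero_mem (by simp))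
  have g : (Gs s : K) = 0 := gl_zero D.p F.sq (by
    simp only [List.mem_cons, List.not_mem_nil, or_false, forall_eq_or_imp, forall_eq]
    refine ⟨⟨_, t5 _ s1 _ m1 rfl, ?_⟩, ⟨_, t5 _ s2 _ (add_mem m1 m2) rfl, ?_⟩,
      ⟨_, t5 _ sh _ (T.smul_mem _ (vm _)) rfl, ?_⟩⟩
    · rw [ev_sub, ev_add, map_sub, es, D.symm c, x1]
      simp only [ev]; push_cast; ring
    · rw [ev_sub, ev_add, map_sub, map_add, es, D.symm c, D.symm c, x1, x2]
      simp only [ev]; push_cast; ring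
    · rw [ev_sub, ev_add, map_sub, map_smul, es, D.symm c, ch]
      simp only [ev, smul_eq_mul]; push_cast; linear_combination 2 * F.sq)
  have x0 : D.B e₁ c ≠ 0 := by rw [x1]; exact one_ne_zero
  rcases fin' s hs with rfl | h | ⟨h, rfl⟩
  · have := F.dg hc s3.neg (by
      rw [map_neg, map_sub, map_add, map_add, es, D.symm c, D.symm c, D.symm c, x1, x2, x3]
      simp only [ev]; push_cast; ring)
      (by simp [x1, y1, F.r1.1, F.o12, F.o13]; norm_num) (by simp [x2, y2, F.r2.1, o21, F.o23]; norm_num)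
      (by simp [x3, y3, F.r3.1, o31, o32]; norm_num) x0
    refine hT ?_
    rw [show c' = e₁ + e₂ + e₃ - c by rw [← this]; abel]
    exact sub_mem (add_mem (add_mem m1 m2) m3) m4
  · exact ten D.two F.five g h
  · have h3 := thirty D.two F.five g h
    refine hT (F.dg hc hc' ?_ (y1.trans x1.symm) (y2.trans x2.symm) (y3.trans x3.symm) x0 ▸ m4)
    rw [es]
    simp only [ev]
    push_cast
    linear_combination -h3

end Fr

end H82.SH

namespace H97s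
namespace Cx
variable {K V A : Type*} [Field K] [IsAlgClosed K] [AddCommGroup V] [Module K V] [Ring A] [Algebra K A] {D : Cx K V A}

theorem h_case (D : Cx K V A) : D.No5 := fun a b ha hb h => by
  by_cases h5 : (5 : K) = 0
  · have h3 : (3 : K) ≠ 0 := fun e => D.two (by linear_combination h5 - e)
    have : (D.B a b - 2) * (D.B a b + 2) = 0 := pow_eq_zero_iff two_ne_zero |>.1 (by
      linear_combination h + (3 - D.B a b ^ 2) * h5)
    rcases mul_eq_zero.1 this with e | e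
    · exact Or.inl ((two_eq ha hb (by linear_combination e)).resolve_right h3)
    · exact Or.inr (neg_eq_iff_eq_neg.1
        ((two_eq ha hb.neg (by rw [map_neg]; linear_combination -e)).resolve_right h3))
  · obtain ⟨φ, e₁, e₂, e₃, a1, a2, a3, a4, a5, a6, a7, a8⟩ := h3frame h5 ha hb h
    exact (H82.SH.Fr.false ⟨h5, a1, a2, a3, a4, a5, a6, a7, a8⟩).elim

end Cx
end H97s
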